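import Mathlib

set_option autoImplicit false

namespace Cfsg.Agent.Helper45

section D8

variable {K : Type*} [Group K]

theorem pow_val_add4 (u : K) (hu : u ^ 4 = 1) (i j : ZMod 4) :
    u ^ (i + j).val = u ^ i.val * u ^ j.val := by
  rw [← pow_add, ZMod.val_add, ← pow_eq_pow_mod _ hu]

/-- the homomorphism from the dihedral group of order eight attached to `u` with `u ^ 4 = 1` and an
involution `x` inverting `u` -/
def d8Hom (u x : K) (hu : u ^ 4 = 1) (hx : x * x = 1) (hux : x * u * x⁻¹ = u⁻¹) : DihedralGroup 4 →* K where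
  toFun g := match g with
    | DihedralGroup.r i => u ^ i.val
    | DihedralGroup.sr i => x * u ^ i.val
  map_one' := by
    show u ^ (0 : ZMod 4).val = 1
    rw [ZMod.val_zero, pow_zero]
  map_mul' := by
    have hxinv : x⁻¹ = x := inv_eq_of_mul_eq_one_left hx
    have hconj : ∀ k : ℕ, u ^ k * x = x * (u ^ k)⁻¹ := by
      intro k
      have h1 : x * u ^ k * x⁻¹ = (u ^ k)⁻¹ := by rw [← conj_pow, hux, inv_pow]
      rw [← h1, hxinv]
      calc u ^ k * x = (x * x) * u ^ k * x := by rw [hx, one_mul]
        _ = x * (x * u ^ k * x) := by group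
    have hsub : ∀ i j : ZMod 4, u ^ (j - i).val = (u ^ i.val)⁻¹ * u ^ j.val := by
      intro i j
      rw [eq_inv_mul_iff_mul_eq, ← pow_val_add4 u hu]
      congr 2
      ring
    rintro (i | i) (j | j)
    · show u ^ (i + j).val = u ^ i.val * u ^ j.val
      exact pow_val_add4 u hu i j
    · show x * u ^ (j - i).val = u ^ i.val * (x * u ^ j.val)
      rw [← mul_assoc, hconj, mul_assoc, hsub]
    · show x * u ^ (i + j).val = x * u ^ i.val * u ^ j.val
      rw [pow_val_add4 u hu, mul_assoc]
    · show u ^ (j - i).val = x * u ^ i.val * (x * u ^ j.val)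
      rw [mul_assoc x, ← mul_assoc (u ^ i.val), hconj, mul_assoc x, ← mul_assoc x x, hx, one_mul, hsub]

/-- recognition of the dihedral group of order eight -/
theorem nonempty_mulEquiv_d8 (hcard : Nat.card K = 8) (u x : K) (hu : orderOf u = 4) (hx : x * x = 1)
    (hux : x * u * x⁻¹ = u⁻¹) (hxu : x ∉ Subgroup.zpowers u) : Nonempty (K ≃* DihedralGroup 4) := by
  have hu4 : u ^ 4 = 1 := by rw [← hu]; exact pow_orderOf_eq_one u
  have hfin : Finite K := Nat.finite_of_card_ne_zero (by omega)
  have hinj : Function.Injective (d8Hom u x hu4 hx hux) := by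
    rw [injective_iff_map_eq_one]
    rintro (i | i) h
    · have h' : u ^ i.val = 1 := h
      have h0 : 4 ∣ i.val := by
        have := orderOf_dvd_of_pow_eq_one h'
        rwa [hu] at this
      have hlt : i.val < 4 := ZMod.val_lt i
      have h3 : i.val = 0 := by omega
      have hi : i = 0 := by rwa [ZMod.val_eq_zero] at h3
      rw [hi]
      rfl
    · exfalso
      have h' : x * u ^ i.val = 1 := h
      apply hxu
      have : x = (u ^ i.val)⁻¹ := eq_inv_of_mul_eq_one_left h'
      rw [this]
      exact inv_mem (Subgroup.pow_mem _ (Subgroup.mem_zpowers u) _)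
  have hbij : Function.Bijective (d8Hom u x hu4 hx hux) := by
    rw [Nat.bijective_iff_injective_and_card]
    exact ⟨hinj, by rw [hcard, DihedralGroup.nat_card]⟩
  exact ⟨(MulEquiv.ofBijective _ hbij).symm⟩

/-- a group of order eight with an involution `a` and an element `d` such that `d a d⁻¹` is different from
`a` but commutes with it is dihedral -/
theorem d8_of_card_eight (hK : Nat.card K = 8) (a d : K) (ha : a * a = 1) (hne : d * a * d⁻¹ ≠ a)
    (hcomm : a * (d * a * d⁻¹) = (d * a * d⁻¹) * a) : Nonempty (K ≃* DihedralGroup 4) := by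
  have hfin : Finite K := Nat.finite_of_card_ne_zero (by omega)
  obtain ⟨a', ha'def⟩ : ∃ a', a' = d * a * d⁻¹ := ⟨_, rfl⟩
  rw [← ha'def] at hne hcomm
  have ha1 : a ≠ 1 := by
    rintro rfl
    apply hne
    rw [ha'def]
    group
  have hainv : a⁻¹ = a := inv_eq_of_mul_eq_one_left ha
  have ha'sq : a' * a' = 1 := by
    rw [ha'def]
    calc d * a * d⁻¹ * (d * a * d⁻¹) = d * (a * a) * d⁻¹ := by group
      _ = 1 := by rw [ha]; group
  have ha'inv : a'⁻¹ = a' := inv_eq_of_mul_eq_one_left ha'sq
  have ha'1 : a' ≠ 1 := by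
    intro h
    apply ha1
    calc a = d⁻¹ * (d * a * d⁻¹) * d := by group
      _ = 1 := by rw [← ha'def, h]; group
  have memC : ∀ c, c ∈ Subgroup.centralizer ({a} : Set K) ↔ a * c = c * a := by
    intro c
    rw [Subgroup.mem_centralizer_iff]
    simp
  have haC : a ∈ Subgroup.centralizer ({a} : Set K) := (memC a).mpr rfl
  have ha'C : a' ∈ Subgroup.centralizer ({a} : Set K) := (memC a').mpr hcomm
  have hdC : d ∉ Subgroup.centralizer ({a} : Set K) := by
    intro h
    apply hne
    rw [ha'def, ← (memC d).mp h]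
    group
  have hoa : orderOf a = 2 := orderOf_eq_prime (by rw [pow_two]; exact ha) ha1
  have hz_le : Subgroup.zpowers a ≤ Subgroup.centralizer ({a} : Set K) := by
    rw [Subgroup.zpowers_le]; exact haC
  have hcz : Nat.card (Subgroup.zpowers a) = 2 := by rw [Nat.card_zpowers, hoa]
  have hCdvd : Nat.card (Subgroup.centralizer ({a} : Set K)) ∣ 8 := by
    rw [← hK]; exact Subgroup.card_subgroup_dvd_card _
  have h2dvd : 2 ∣ Nat.card (Subgroup.centralizer ({a} : Set K)) := by
    rw [← hcz]; exact Subgroup.card_dvd_of_le hz_le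
  have hCne8 : Nat.card (Subgroup.centralizer ({a} : Set K)) ≠ 8 := by
    intro h
    have : Subgroup.centralizer ({a} : Set K) = ⊤ := (Subgroup.card_eq_iff_eq_top _).mp (by rw [h, hK])
    exact hdC (this ▸ Subgroup.mem_top d)
  have mem_zp : ∀ c, c ∈ Subgroup.zpowers a → c = 1 ∨ c = a := by
    intro c hc
    obtain ⟨k, rfl⟩ := Subgroup.mem_zpowers_iff.mp hc
    rcases Int.even_or_odd' k with ⟨j, rfl | rfl⟩
    · left
      rw [zpow_mul, zpow_two, ha, one_zpow]
    · right
      rw [zpow_add, zpow_mul, zpow_two, ha, one_zpow, one_mul, zpow_one]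
  have ha'z : a' ∉ Subgroup.zpowers a := by
    intro h
    rcases mem_zp a' h with h1 | h1
    · exact ha'1 h1
    · exact hne h1
  have hCne2 : Nat.card (Subgroup.centralizer ({a} : Set K)) ≠ 2 := by
    intro h
    have : Subgroup.zpowers a = Subgroup.centralizer ({a} : Set K) :=
      Subgroup.eq_of_le_of_card_ge hz_le (by rw [h, hcz])
    exact ha'z (this ▸ ha'C)
  have hC4 : Nat.card (Subgroup.centralizer ({a} : Set K)) = 4 := by
    have h8 : (8 : ℕ) = 2 ^ 3 := by norm_num
    rw [h8, Nat.dvd_prime_pow Nat.prime_two] at hCdvd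
    obtain ⟨j, hj, hjc⟩ := hCdvd
    have hj' : j = 0 ∨ j = 1 ∨ j = 2 ∨ j = 3 := by omega
    rcases hj' with rfl | rfl | rfl | rfl
    · rw [hjc] at h2dvd
      exact absurd h2dvd (by norm_num)
    · exact absurd hjc hCne2
    · rw [hjc]
      norm_num
    · exact absurd hjc hCne8
  have hCidx : (Subgroup.centralizer ({a} : Set K)).index = 2 := by
    have := Subgroup.card_mul_index (Subgroup.centralizer ({a} : Set K))
    rw [hC4, hK] at this
    omega
  have heC : d * d ∈ Subgroup.centralizer ({a} : Set K) :=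
    (Subgroup.mul_mem_iff_of_index_two hCidx).mpr Iff.rfl
  have hea : a * (d * d) = d * d * a := (memC _).mp heC
  -- enumeration of the centraliser
  have hZidx : ((Subgroup.zpowers a).subgroupOf (Subgroup.centralizer ({a} : Set K))).index = 2 := by
    have h1 := Subgroup.card_mul_index ((Subgroup.zpowers a).subgroupOf (Subgroup.centralizer ({a} : Set K)))
    rw [Nat.card_congr (Subgroup.subgroupOfEquivOfLe hz_le).toEquiv, hcz, hC4] at h1
    omega
  have enum : ∀ c ∈ Subgroup.centralizer ({a} : Set K), c = 1 ∨ c = a ∨ c = a' ∨ c = a * a' := by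
    intro c hc
    by_cases hcz' : c ∈ Subgroup.zpowers a
    · rcases mem_zp c hcz' with h | h
      · exact Or.inl h
      · exact Or.inr (Or.inl h)
    · have h1 : (⟨c, hc⟩ : ↥(Subgroup.centralizer ({a} : Set K))) * ⟨a', ha'C⟩ ∈
          (Subgroup.zpowers a).subgroupOf (Subgroup.centralizer ({a} : Set K)) := by
        rw [Subgroup.mul_mem_iff_of_index_two hZidx, Subgroup.mem_subgroupOf, Subgroup.mem_subgroupOf]
        exact ⟨fun h => absurd h hcz', fun h => absurd h ha'z⟩
      rw [Subgroup.mem_subgroupOf] at h1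
      have h3 : c * a' ∈ Subgroup.zpowers a := h1
      rcases mem_zp _ h3 with h | h
      · right; right; left
        have : c = a'⁻¹ := eq_inv_of_mul_eq_one_left h
        rw [this, ha'inv]
      · right; right; right
        calc c = c * a' * a'⁻¹ := by group
          _ = a * a' := by rw [h, ha'inv]
  have hda : d * a ≠ a * d := by
    intro h
    apply hne
    rw [ha'def, h]
    group
  have hda' : d * a' * d⁻¹ = a := by
    rw [ha'def]
    calc d * (d * a * d⁻¹) * d⁻¹ = (d * d * a) * (d⁻¹ * d⁻¹) := by group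
      _ = a * (d * d) * (d⁻¹ * d⁻¹) := by rw [hea]
      _ = a := by group
  have hz1 : a * a' ≠ 1 := by
    intro h
    apply hne
    have : a' = a⁻¹ := eq_inv_of_mul_eq_one_right h
    rw [this, hainv]
  have hzsq : a * a' * (a * a') = 1 := by
    calc a * a' * (a * a') = a * (a' * a) * a' := by group
      _ = a * (a * a') * a' := by rw [hcomm]
      _ = (a * a) * (a' * a') := by group
      _ = 1 := by rw [ha, ha'sq, one_mul]
  have key : a * d * (a * d) = a * a' * (d * d) := by
    rw [ha'def]
    group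
  rcases enum _ heC with he | he | he | he
  · -- d * d = 1
    have hdinv : d⁻¹ = d := inv_eq_of_mul_eq_one_left he
    have hu2 : (a * d) ^ 2 = a * a' := by rw [pow_two, key, he, mul_one]
    have hu4 : (a * d) ^ 4 = 1 := by
      have : (a * d) ^ 4 = (a * d) ^ 2 * (a * d) ^ 2 := by rw [← pow_add]
      rw [this, hu2, hzsq]
    have hord : orderOf (a * d) = 4 := by
      have := orderOf_eq_prime_pow (x := a * d) (p := 2) (n := 1) (by rw [pow_one, hu2]; exact hz1)
        (by norm_num; exact hu4)
      simpa using this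
    refine nonempty_mulEquiv_d8 hK (a * d) d hord he ?_ ?_
    · calc d * (a * d) * d⁻¹ = d * a := by group
        _ = d⁻¹ * a⁻¹ := by rw [hdinv, hainv]
        _ = (a * d)⁻¹ := by group
    · intro h
      obtain ⟨k, hk⟩ := Subgroup.mem_zpowers_iff.mp h
      have hc : Commute ((a * d) ^ k) (a * d) := (Commute.refl (a * d)).zpow_left k
      rw [hk] at hc
      apply hda
      have h5 : d * (a * d) = a * d * d := hc
      calc d * a = d * (a * d) * d⁻¹ := by group
        _ = a * d * d * d⁻¹ := by rw [h5]
        _ = a * d := by group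
  · exfalso
    apply hda
    rw [← he]
    group
  · exfalso
    apply hne
    have h1 : d * a' = a' * d := by rw [← he]; group
    calc a' = a' * d * d⁻¹ := by group
      _ = d * a' * d⁻¹ := by rw [h1]
      _ = a := hda'
  · -- d * d = a * a'
    have hu2 : d ^ 2 = a * a' := by rw [pow_two, he]
    have hu4 : d ^ 4 = 1 := by
      have : d ^ 4 = d ^ 2 * d ^ 2 := by rw [← pow_add]
      rw [this, hu2, hzsq]
    have hord : orderOf d = 4 := by
      have := orderOf_eq_prime_pow (x := d) (p := 2) (n := 1) (by rw [pow_one, hu2]; exact hz1)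
        (by norm_num; exact hu4)
      simpa using this
    refine nonempty_mulEquiv_d8 hK d a hord ha ?_ ?_
    · have h1 : a * d * (a * d) = 1 := by rw [key, he, hzsq]
      rw [hainv]
      calc a * d * a = a * d * (a * d) * d⁻¹ := by group
        _ = d⁻¹ := by rw [h1, one_mul]
    · intro h
      obtain ⟨k, hk⟩ := Subgroup.mem_zpowers_iff.mp h
      have hc : Commute (d ^ k) d := (Commute.refl d).zpow_left k
      rw [hk] at hc
      exact hda hc.eq.symm

/-- a normal subgroup of index eight whose quotient contains an involution `a` and an element `d` such that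
`d a d⁻¹` is different from `a` and commutes with it is the kernel of a surjection onto the dihedral group of
order eight -/
theorem exists_hom_d8 {G : Type*} [Group G] (N : Subgroup G) [N.Normal] (hidx : N.index = 8) (A D : G)
    (h1 : A * A ∈ N) (h2 : (D * A * D⁻¹)⁻¹ * A ∉ N)
    (h3 : (A * (D * A * D⁻¹))⁻¹ * (D * A * D⁻¹ * A) ∈ N) :
    ∃ φ : G →* DihedralGroup 4, Function.Surjective φ ∧ φ.ker = N := by
  have hK : Nat.card (G ⧸ N) = 8 := hidx
  have f1 : (QuotientGroup.mk' N A) * (QuotientGroup.mk' N A) = 1 := by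
    rw [← map_mul, QuotientGroup.mk'_apply, QuotientGroup.eq_one_iff]
    exact h1
  have f2 : QuotientGroup.mk' N D * QuotientGroup.mk' N A * (QuotientGroup.mk' N D)⁻¹ ≠
      QuotientGroup.mk' N A := by
    intro h
    apply h2
    rw [← QuotientGroup.eq_one_iff, ← QuotientGroup.mk'_apply, map_mul, map_inv, map_mul, map_mul, map_inv,
      h, inv_mul_cancel]
  have f3 : QuotientGroup.mk' N A *
      (QuotientGroup.mk' N D * QuotientGroup.mk' N A * (QuotientGroup.mk' N D)⁻¹) =
      (QuotientGroup.mk' N D * QuotientGroup.mk' N A * (QuotientGroup.mk' N D)⁻¹) *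
        QuotientGroup.mk' N A := by
    have h' : QuotientGroup.mk' N ((A * (D * A * D⁻¹))⁻¹ * (D * A * D⁻¹ * A)) = 1 :=
      (QuotientGroup.eq_one_iff _).mpr h3
    rw [map_mul, map_inv, map_mul, map_mul, map_mul, map_mul, map_mul, map_inv] at h'
    exact inv_mul_eq_one.mp h'
  obtain ⟨e⟩ := d8_of_card_eight hK _ _ f1 f2 f3
  refine ⟨e.toMonoidHom.comp (QuotientGroup.mk' N), e.surjective.comp (QuotientGroup.mk'_surjective N), ?_⟩
  ext x
  rw [MonoidHom.mem_ker, MonoidHom.comp_apply]
  show e (QuotientGroup.mk' N x) = 1 ↔ _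
  rw [MulEquiv.map_eq_one_iff, QuotientGroup.mk'_apply, QuotientGroup.eq_one_iff]

end D8

end Cfsg.Agent.Helper45
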